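import Cfsg.Agent.H890.Spr.Sixteen_m3
import Cfsg.Agent.H130.F4Graph
import Cfsg.Agent.H169.CycDvd
import Cfsg.Agent.Prune
set_option linter.all false
open scoped Cfsg.Agent.FastGrp

/-!
# `E₈(2)` has no element of order 341 (helper811)

* `Spr.bil_rep` : the Weyl group of simply laced type preserves the Cartan form;
* `charpoly_eq` : `χ_θ = Φ₅ Φ₁₀` if `θ ∈ GL(8, ℤ)` has finite order and `31, 11 ∣ χ_θ(2)`;
* `no_341` : `chevE8.group F`, `|F| = 2`, has no element of order 341.
-/

set_option autoImplicit false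

namespace Cfsg.Agent.H811.Spr

open CoxeterSystem Cfsg Cfsg.Lie Cfsg.Lie.ChevalleyDatum Polynomial Module
open Cfsg.Agent.ChevalleyStructure Cfsg.Agent.ChevalleyStructure.CoxeterGeom
  Cfsg.Agent.ChevalleyStructure.CoxeterGeomTypes
open Cfsg.Agent.Tits.Roots Cfsg.Agent.Tits.Core Cfsg.Agent.Nodes.BNOf
  Cfsg.Agent.Nodes.RGDChev
open Cfsg.Agent.BpExc.FamInst
open scoped Matrix

/-! ### the Cartan form -/

section Form

variable {B W : Type*} [Fintype B] [DecidableEq B] [Group W] {M : CoxeterMatrix B}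
  (cs : CoxeterSystem M W) {A : B → B → ℤ} (h : IsCartan M A)

/-- the Cartan form -/
def bil (A : B → B → ℤ) (v u : B → ℤ) : ℤ := ∑ j, v j * pairing A j u

omit [DecidableEq B] in
theorem bil_sub_left (v v' u : B → ℤ) : bil A (v - v') u = bil A v u - bil A v' u := by
  simp only [bil, Pi.sub_apply, sub_mul, Finset.sum_sub_distrib]

omit [DecidableEq B] in
theorem bil_sub_right (v u u' : B → ℤ) : bil A v (u - u') = bil A v u - bil A v u' := by
  have h1 : ∀ j, pairing A j (u - u') = pairing A j u - pairing A j u' := by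
    intro j
    simp only [pairing, Pi.sub_apply, mul_sub, Finset.sum_sub_distrib]
  simp only [bil, h1, mul_sub, Finset.sum_sub_distrib]

theorem bil_single_left (i : B) (c : ℤ) (u : B → ℤ) : bil A (Pi.single i c) u = c * pairing A i u := by
  unfold bil
  rw [Finset.sum_eq_single i]
  · rw [Pi.single_eq_same]
  · intro j _ hj
    rw [Pi.single_eq_of_ne hj, zero_mul]
  · intro h0
    exact absurd (Finset.mem_univ i) h0

theorem bil_single_right (hs : ∀ i j, A i j = A j i) (i : B) (c : ℤ) (v : B → ℤ) :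
    bil A v (Pi.single i c) = c * pairing A i v := by
  unfold bil
  simp only [pairing_single]
  unfold pairing
  rw [Finset.mul_sum]
  exact Finset.sum_congr rfl fun j _ => by rw [hs j i]; ring

include h in
theorem bil_refl (hs : ∀ i j, A i j = A j i) (i : B) (v u : B → ℤ) :
    bil A (refl A i v) (refl A i u) = bil A v u := by
  rw [refl_apply, refl_apply, bil_sub_left, bil_sub_right, bil_sub_right, bil_single_left, bil_single_left,
    bil_single_right hs, pairing_single, h.diag]
  ring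

theorem bil_rep (hs : ∀ i j, A i j = A j i) (w : W) (v u : B → ℤ) :
    bil A (rep cs h w v) (rep cs h w u) = bil A v u := by
  induction w using cs.simple_induction_left with
  | one => rw [map_one, Module.End.one_apply, Module.End.one_apply]
  | mul_simple_left w i ih =>
    rw [map_mul, Module.End.mul_apply, Module.End.mul_apply, rep_simple, bil_refl h hs, ih]

theorem mat_rep (hs : ∀ i j, A i j = A j i) (w : W) :
    (LinearMap.toMatrix' (rep cs h w)).transpose * Matrix.of A * LinearMap.toMatrix' (rep cs h w) =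
      Matrix.of A := by
  have key : ∀ (X : Matrix B B ℤ) (i j : B), X i j = Pi.single i 1 ⬝ᵥ X *ᵥ Pi.single j 1 := by
    intro X i j
    rw [Matrix.mulVec_single_one, single_dotProduct, one_mul, Matrix.col_apply]
  have hb : ∀ v u : B → ℤ, v ⬝ᵥ Matrix.of A *ᵥ u = bil A v u := fun v u => rfl
  have e : ∀ v, LinearMap.toMatrix' (rep cs h w) *ᵥ v = rep cs h w v := fun v => by
    rw [← Matrix.toLin'_apply, Matrix.toLin'_toMatrix']
  refine Matrix.ext fun i j => (key _ i j).trans (Eq.trans ?_ (key (Matrix.of A) i j).symm)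
  rw [hb, ← bil_rep cs h hs w, ← hb, ← e, ← e, Matrix.mul_assoc, ← Matrix.mulVec_mulVec, ← Matrix.mulVec_mulVec,
    Matrix.dotProduct_mulVec, Matrix.vecMul_transpose]

end Form

/-! ### the characteristic polynomial -/

theorem charpoly_eq (θ : Module.End ℤ (Fin 8 → ℤ)) {N : ℕ} (hN : 0 < N) (hθ : θ ^ N = 1)
    (h31 : (31 : ℤ) ∣ θ.charpoly.eval 2) (h11 : (11 : ℤ) ∣ θ.charpoly.eval 2) :
    θ.charpoly = cyclotomic 5 ℤ * cyclotomic 10 ℤ := by
  have hr : finrank ℤ (Fin 8 → ℤ) = 8 := by simp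
  have o31 : orderOf ((2 : ℤ) : ZMod 31) = 5 := by
    have : Fact (Nat.Prime 5) := ⟨by norm_num⟩
    exact orderOf_eq_prime (by decide) (by decide)
  have o11 : orderOf ((2 : ℤ) : ZMod 11) = 10 := by
    refine orderOf_eq_of_pow_and_pow_div_prime (by norm_num) (by decide) ?_
    intro p hp hpd
    have h1 : p ∣ 2 * 5 := by simpa using hpd
    rcases hp.dvd_mul.1 h1 with h2 | h2
    · rw [(Nat.prime_dvd_prime_iff_eq hp Nat.prime_two).1 h2]
      decide
    · rw [(Nat.prime_dvd_prime_iff_eq hp (by norm_num)).1 h2]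
      decide
  obtain ⟨-, h1⟩ := H169.CycDvd.exists_cyclotomic θ hN hθ (r := 31) (by norm_num) (by rw [hr]; norm_num) h31
  obtain ⟨-, h2⟩ := H169.CycDvd.exists_cyclotomic θ hN hθ (r := 11) (by norm_num) (by rw [hr]; norm_num) h11
  rw [o31] at h1
  rw [o11] at h2
  have hm : θ.charpoly.Monic := LinearMap.charpoly_monic θ
  have hirr := cyclotomic.irreducible (n := 5) (by norm_num)
  have hirr' := cyclotomic.irreducible (n := 10) (by norm_num)
  obtain ⟨g, hg⟩ := h1
  rw [hg] at h2
  rcases hirr'.prime.dvd_or_dvd h2 with h6 | h6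
  · exfalso
    rcases hirr.dvd_iff.1 h6 with h8 | h8
    · exact hirr'.not_isUnit h8
    · have h9 := eq_of_monic_of_associated (cyclotomic.monic _ ℤ) (cyclotomic.monic _ ℤ) h8
      exact absurd (cyclotomic_injective h9) (by norm_num)
  · have hgm : g.Monic := by
      rw [hg] at hm
      exact (cyclotomic.monic 5 ℤ).of_mul_monic_left hm
    have hd : g.natDegree = 4 := by
      have h7 := congrArg natDegree hg
      rw [(cyclotomic.monic _ ℤ).natDegree_mul hgm, natDegree_cyclotomic, LinearMap.charpoly_natDegree, hr,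
        Nat.totient_prime (by norm_num)] at h7
      omega
    have ht : Nat.totient 10 = 4 := by decide
    have h10 : cyclotomic 10 ℤ = g := by
      refine (eq_of_monic_of_dvd_of_natDegree_le (cyclotomic.monic _ ℤ) hgm h6 ?_).symm
      rw [hd, natDegree_cyclotomic, ht]
    rw [h10, hg]

theorem eval_one_eq : (cyclotomic 5 ℤ * cyclotomic 10 ℤ).eval 1 = 5 := by
  have : Fact (Nat.Prime 5) := ⟨by norm_num⟩
  rw [eval_mul, eval_one_cyclotomic_prime, eval_one_cyclotomic_not_prime_pow]
  · norm_num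
  · intro p hp k hk
    have h2 : 2 ∣ p ^ k := by rw [hk]; norm_num
    have h5 : 5 ∣ p ^ k := by rw [hk]; norm_num
    have h3 := (Nat.prime_dvd_prime_iff_eq Nat.prime_two hp).1 (Nat.prime_two.dvd_of_dvd_pow h2)
    have h4 := (Nat.prime_dvd_prime_iff_eq (by norm_num) hp).1 ((by norm_num : Nat.Prime 5).dvd_of_dvd_pow h5)
    omega

theorem e8T : IsType chevE8 8 CoxeterMatrix.E₈ := by simp [IsType, typeList]

theorem symm_E8 (i j : Fin 8) : cartanOf chevE8 8 i j = cartanOf chevE8 8 j i := by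
  revert i j
  decide +kernel

/-- no element of the Weyl group of `E₈` has `det (w - 2)` divisible by 341 -/
theorem no_det {W : Type*} [Group W] [Finite W] (cs : CoxeterSystem CoxeterMatrix.E₈ W) (w : W) :
    ¬ (341 : ℤ) ∣ LinearMap.det (rep cs e8T.isCartan w - (2 : ℤ) • (1 : Module.End ℤ (Fin 8 → ℤ))) := by
  intro hd
  obtain ⟨θ, hθ⟩ : ∃ θ, θ = rep cs e8T.isCartan w := ⟨_, rfl⟩
  rw [← hθ] at hd
  have h1 : θ.charpoly.eval 2 = LinearMap.det (θ - (2 : ℤ) • (1 : Module.End ℤ (Fin 8 → ℤ))) := by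
    have h0 : algebraMap ℤ (Module.End ℤ (Fin 8 → ℤ)) 2 - θ =
        (-1 : ℤ) • (θ - (2 : ℤ) • (1 : Module.End ℤ (Fin 8 → ℤ))) := by
      rw [Algebra.algebraMap_eq_smul_one]
      module
    rw [LinearMap.eval_charpoly, h0, LinearMap.det_smul]
    simp
  rw [← h1] at hd
  have hN : θ ^ Nat.card W = 1 := by rw [hθ, ← map_pow, pow_card_eq_one', map_one]
  have h2 := charpoly_eq θ Nat.card_pos hN ((by norm_num : (31 : ℤ) ∣ 341).trans hd)
    ((by norm_num : (11 : ℤ) ∣ 341).trans hd)
  have h3 : LinearMap.det (1 - θ) = 5 := by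
    have h4 := congrArg (eval 1) h2
    rw [eval_one_eq, LinearMap.eval_charpoly, map_one] at h4
    exact h4
  have h4 : (1 - LinearMap.toMatrix' θ).det = 5 := by
    rw [← h3, ← LinearMap.det_toMatrix', map_sub, LinearMap.toMatrix'_one]
  refine Iso5.no_det_prime (A := LinearMap.toMatrix' θ) (C := Matrix.of (cartanOf chevE8 8))
    (B := Matrix.of ![![4,5,7,10,8,6,4,2],![5,8,10,15,12,9,6,3],![7,10,14,20,16,12,8,4],
    ![10,15,20,30,24,18,12,6],![8,12,16,24,20,15,10,5],![6,9,12,18,15,12,8,4],![4,6,8,12,10,8,6,3],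
    ![2,3,4,6,5,4,3,2]]) ?_ ?_ ?_ (p := 5) (by norm_num) (by norm_num) ?_
  · ext i j
    exact symm_E8 j i
  · rw [hθ]
    exact mat_rep cs e8T.isCartan symm_E8 w
  · ext i j
    rw [Matrix.mul_apply, Matrix.one_apply]
    exact inv_E8 i j
  · rw [h4]
    rfl

/-- **`E₈(2)` has no element of order 341.** -/
theorem no_341 {F : Type} [Field F] [Fintype F] (h : Fintype.card F = 2) (x : ↥(chevE8.group F)) :
    orderOf x ≠ 341 := by
  intro ho
  have hW : Finite CoxeterMatrix.E₈.Group := finite_W e8T CoxeterMatrix.E₈.toCoxeterSystem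
  obtain ⟨w, hw⟩ := H130.TorOrd.dvd_det e8T CoxeterMatrix.E₈.toCoxeterSystem (x := x)
    (by rw [ho, Nat.card_eq_fintype_card, h]; norm_num)
  rw [ho, Nat.card_eq_fintype_card, h] at hw
  exact no_det CoxeterMatrix.E₈.toCoxeterSystem w hw

end Cfsg.Agent.H811.Spr

private theorem dce_b8310622d832 : _root_.True := by
  try have : _root_.True := by simp only [_root_.Cfsg.Agent.H811.Spr.bil.eq_1]
  exact _root_.True.intro
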